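import Groth.Agent.Proj16.ConeData
import Groth.Agent.TwistX.Global
import Groth.Agent.InvX.GenLocusPull
import Groth.Agent.InvUfdLib.Extend

/-!
# The twisting sheaves along the morphism `G(φ) ⟶ Proj 𝒜`
-/

universe u

open CategoryTheory AlgebraicGeometry TopologicalSpace Opposite HomogeneousLocalization

set_option backward.isDefEq.respectTransparency false
set_option backward.isDefEq.respectTransparency.types false

namespace Groth.Agent.TwistX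

open Groth.Agent

/-- Frames with the same transition functions give an isomorphism. -/
theorem nonempty_iso_of_frames {X : Scheme.{u}} {M N : X.Modules} {ι : Type u} (U : ι → X.Opens)
    (hcov : ∀ x, ∃ a, x ∈ U a) (e : ∀ a, Γ(M, U a)) (n : ∀ a, Γ(N, U a))
    (he : ∀ a, InvX.IsFrame (e a)) (hn : ∀ a, InvX.IsFrame (n a))
    (h : ∀ (a b : ι) (W : X.Opens) (ha : W ≤ U a) (hb : W ≤ U b) (g : Γ(X, W)),
      AModX.res M hb (e b) = g • AModX.res M ha (e a) → AModX.res N hb (n b) = g • AModX.res N ha (n a)) :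
    Nonempty (M ≅ N) := by
  have hbwd : ∀ (a b : ι) (W : X.Opens) (ha : W ≤ U a) (hb : W ≤ U b) (k : Γ(X, W)),
      AModX.res N hb (n b) = k • AModX.res N ha (n a) → AModX.res M hb (e b) = k • AModX.res M ha (e a) := by
    intro a b W ha hb k hk
    obtain ⟨k', hk'⟩ := (he a).exists_coord ha (AModX.res M hb (e b))
    rw [hk', (hn a).coord_unique ha (hk.symm.trans (h a b W ha hb k' hk'))]
  refine ⟨⟨InvX.ofFrames hcov he h, InvX.ofFrames hcov hn hbwd, ?_, ?_⟩⟩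
  · refine InvX.hom_ext_of_frames U hcov e he fun a => ?_
    rw [Scheme.Modules.Hom.comp_app, ConcreteCategory.comp_apply, InvX.ofFrames_app hcov he h,
      InvX.ofFrames_app hcov hn hbwd]
    rfl
  · refine InvX.hom_ext_of_frames U hcov n hn fun a => ?_
    rw [Scheme.Modules.Hom.comp_app, ConcreteCategory.comp_apply, InvX.ofFrames_app hcov hn hbwd,
      InvX.ofFrames_app hcov he h]
    rfl

variable {R A : Type u} [CommRing R] [CommRing A] [Algebra R A] {𝒜 : ℕ → Submodule R A} [GradedAlgebra 𝒜]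
  {B : Type u} [CommRing B] [Algebra R B] {ℬ : ℕ → Submodule R B} [GradedAlgebra ℬ]

lemma one_nonVan (U : Opens (ProjectiveSpectrum.top 𝒜)) : NonVan (𝒜 := 𝒜) (1 : A) U :=
  fun x h => x.1.isPrime.ne_top ((Ideal.eq_top_iff_one _).mpr h)

/-- The fraction `f ^ n`. -/
noncomputable def degOneFrac {f : A} (hf : f ∈ 𝒜 1) (n : ℤ) {U : Opens (ProjectiveSpectrum.top 𝒜)}
    (h : NonVan (𝒜 := 𝒜) f U) : UnitFrac (𝒜 := 𝒜) n U where
  i := n.toNat
  j := (-n).toNat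
  num := f ^ n.toNat
  den := f ^ (-n).toNat
  num_mem := by simpa using SetLike.pow_mem_graded n.toNat hf
  den_mem := by simpa using SetLike.pow_mem_graded (-n).toNat hf
  deg := by omega
  num_ne x := notMem_pow (h x) _
  den_ne x := notMem_pow (h x) _

/-- The transition from `f ^ n` to `g ^ n`. -/
noncomputable def degOneTrans {f g x : A} (hf : f ∈ 𝒜 1) (hg : g ∈ 𝒜 1) (hx : x = f * g) (i j : ℕ) : Away 𝒜 x :=
  Away.mk 𝒜 (show x ∈ 𝒜 (1 + 1) from hx ▸ SetLike.mul_mem_graded hf hg) (i + j) (g ^ (2 * i) * f ^ (2 * j)) (by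
    rw [show (i + j) • (1 + 1) = 2 * i + 2 * j by simp only [smul_eq_mul]; ring]
    exact SetLike.mul_mem_graded (by simpa using SetLike.pow_mem_graded (2 * i) hg)
      (by simpa using SetLike.pow_mem_graded (2 * j) hf))

/-- The value of a function on a basic open. -/
theorem awayToSection_val {f : A} {d : ℕ} (hf : f ∈ 𝒜 d) (n : ℕ) (a : A) (ha : a ∈ 𝒜 (n • d))
    (y : Proj.basicOpen 𝒜 f) (hy : f ^ n ∉ y.1.asHomogeneousIdeal) :
    ((Proj.awayToSection 𝒜 f (Away.mk 𝒜 hf n a ha)).1 y).val = Localization.mk a ⟨f ^ n, hy⟩ := by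
  refine (ProjectiveSpectrum.Proj.awayToSection_apply 𝒜 f _ y).trans ?_
  rw [Away.val_mk, Localization.mk_eq_mk', IsLocalization.map_mk', Localization.mk_eq_mk']
  rfl

/-- Change of frame. -/
theorem res_fracSect_degOne {f g x : A} (hf : f ∈ 𝒜 1) (hg : g ∈ 𝒜 1) (hx : x = f * g) (n : ℤ)
    {U U' W : (Proj 𝒜).Opens}
    (h : NonVan (𝒜 := 𝒜) f U) (h' : NonVan (𝒜 := 𝒜) g U') (hWU : W ≤ U) (hWU' : W ≤ U')
    (hW : W ≤ Proj.basicOpen 𝒜 x) :
    AModX.res (Twist.twist 𝒜 n) hWU' (fracSect (degOneFrac hg n h')) =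
      AModX.resR hW (Proj.awayToSection 𝒜 x (degOneTrans hf hg hx n.toNat (-n).toNat)) •
        AModX.res (Twist.twist 𝒜 n) hWU (fracSect (degOneFrac hf n h)) := by
  refine Subtype.ext (funext fun y => Subtype.ext ?_)
  refine Eq.symm (Eq.trans (Twist.coe_smul_val n y.1
    ((AModX.resR hW (Proj.awayToSection 𝒜 x (degOneTrans hf hg hx n.toNat (-n).toNat))).1 y)
    ((fracSect (degOneFrac hf n h)).1 ⟨y.1, hWU y.2⟩)) ?_)
  show ((Proj.awayToSection 𝒜 x (degOneTrans hf hg hx n.toNat (-n).toNat)).1 ⟨y.1, hW y.2⟩).val *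
      Localization.mk (f ^ n.toNat) ⟨f ^ (-n).toNat, notMem_pow (h ⟨y.1, hWU y.2⟩) _⟩ =
    Localization.mk (g ^ n.toNat) ⟨g ^ (-n).toNat, notMem_pow (h' ⟨y.1, hWU' y.2⟩) _⟩
  rw [degOneTrans, awayToSection_val _ _ _ _ _ (notMem_pow (hW y.2) _), Localization.mk_mul,
    Localization.mk_eq_mk_iff, Localization.r_iff_exists]
  exact ⟨1, by generalize n.toNat = i; generalize (-n).toNat = j; simp [hx, mul_pow, pow_add, pow_mul]; ring⟩

variable (φ : 𝒜 →+*ᵍ ℬ)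

/-- The structure map of `awayι` on `D₊(f)`. -/
theorem awayι_appLE_awayToSection {f : A} {d : ℕ} (hf : f ∈ 𝒜 d) (hd : 0 < d) (q : Away 𝒜 f)
    (e : ⊤ ≤ Proj.awayι 𝒜 f hf hd ⁻¹ᵁ Proj.basicOpen 𝒜 f) :
    (Proj.awayι 𝒜 f hf hd).appLE (Proj.basicOpen 𝒜 f) ⊤ e (Proj.awayToSection 𝒜 f q) =
      (Scheme.ΓSpecIso (CommRingCat.of (Away 𝒜 f))).inv q := by
  let D := Proj.basicOpen 𝒜 f
  let σ := Proj.basicOpenIsoSpec 𝒜 f hf hd
  have h1 : σ.hom.app ⊤ = (Scheme.ΓSpecIso _).hom ≫ Proj.awayToSection 𝒜 f ≫ D.topIso.inv :=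
    Proj.basicOpenToSpec_app_top 𝒜 f
  have h2 : (Proj.awayι 𝒜 f hf hd).appLE D ⊤ e =
      D.ι.appLE D ⊤ (by simp) ≫ σ.inv.appLE ⊤ ⊤ (by simp) :=
    (Scheme.Hom.appLE_comp_appLE σ.inv D.ι D ⊤ ⊤ _ _).symm
  have h3 : D.ι.appLE D ⊤ (by simp) = D.topIso.inv := by
    rw [Scheme.Opens.ι_appLE, Scheme.Opens.topIso_inv]
    rfl
  rw [h2, h3]
  obtain ⟨r, rfl⟩ : ∃ r, (Scheme.ΓSpecIso (CommRingCat.of (Away 𝒜 f))).hom r = q :=
    ⟨_, Iso.inv_hom_id_apply (Scheme.ΓSpecIso (CommRingCat.of (Away 𝒜 f))) q⟩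
  rw [Iso.hom_inv_id_apply]
  have h4 : σ.hom.app ⊤ ≫ σ.inv.appLE ⊤ ⊤ (by simp) = 𝟙 _ := by
    have h6 : σ.hom.appLE ⊤ ⊤ (by simp) ≫ σ.inv.appLE ⊤ ⊤ (by simp) =
        (σ.inv ≫ σ.hom).appLE ⊤ ⊤ (by simp) := Scheme.Hom.appLE_comp_appLE σ.inv σ.hom ⊤ ⊤ ⊤ _ _
    rw [show σ.hom.appLE ⊤ ⊤ _ = σ.hom.app ⊤ from σ.hom.appLE_eq_app] at h6
    refine h6.trans ?_
    simp only [Iso.inv_hom_id]
    simp [Scheme.Hom.appLE]
  have h5 := ConcreteCategory.congr_hom h4 r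
  rw [h1] at h5
  exact h5

/-- The structure map of `G(φ) ⟶ Proj 𝒜` on functions of `D₊(x)`. -/
theorem map_appLE_awayToSection (p : (PCone.dom φ : Scheme.{u}) ⟶ Proj 𝒜) {x : A} {d : ℕ} (hx : x ∈ 𝒜 d)
    (hd : 0 < d) (hp : PCone.chart φ hx hd ≫ p =
      Spec.map (CommRingCat.ofHom (Away.map φ x)) ≫ Proj.awayι 𝒜 x hx hd)
    {W : (PCone.dom φ).toScheme.Opens} (hW : W ≤ p ⁻¹ᵁ Proj.basicOpen 𝒜 x)
    (hW' : W ≤ (PCone.dom φ).ι ⁻¹ᵁ Proj.basicOpen ℬ (φ x)) (q : Away 𝒜 x) :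
    p.appLE _ W hW (Proj.awayToSection 𝒜 x q) =
      (PCone.dom φ).ι.appLE _ W hW' (Proj.awayToSection ℬ (φ x) (Away.map φ x q)) := by
  let c := PCone.chart φ hx hd
  haveI : IsOpenImmersion c := (Proj16.pconeData 𝒜 ℬ φ).isOpenImmersion hx hd
  have hc : c.opensRange = (PCone.dom φ).ι ⁻¹ᵁ Proj.basicOpen ℬ (φ x) :=
    Opens.ext (Proj16.pcone_range_chart 𝒜 ℬ φ hx hd)
  have hle : c.opensRange ≤ p ⁻¹ᵁ Proj.basicOpen 𝒜 x := by
    rintro _ ⟨w, rfl⟩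
    show p (c w) ∈ Proj.basicOpen 𝒜 x
    rw [← Scheme.Hom.comp_apply, hp]
    exact (Proj.opensRange_awayι 𝒜 x hx hd).le ⟨_, rfl⟩
  have key : p.appLE _ c.opensRange hle (Proj.awayToSection 𝒜 x q) =
      (PCone.dom φ).ι.appLE _ c.opensRange hc.le (Proj.awayToSection ℬ (φ x) (Away.map φ x q)) := by
    have htop : (⊤ : (Spec (CommRingCat.of (Away ℬ (φ x)))).Opens) ≤ c ⁻¹ᵁ c.opensRange := fun w _ => ⟨w, rfl⟩
    have hinj : Function.Injective (c.appLE c.opensRange ⊤ htop) := by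
      haveI : IsIso (c.app c.opensRange) := c.isIso_app _ le_rfl
      haveI : IsIso (c.appLE c.opensRange ⊤ htop) := by
        rw [Scheme.Hom.appLE, Subsingleton.elim (homOfLE htop) (eqToHom (le_antisymm htop le_top))]
        infer_instance
      exact (ConcreteCategory.bijective_of_isIso _).1
    refine hinj ?_
    rw [← ConcreteCategory.comp_apply (p.appLE _ _ hle) (c.appLE _ _ htop),
      ← ConcreteCategory.comp_apply ((PCone.dom φ).ι.appLE _ _ hc.le) (c.appLE _ _ htop), Scheme.Hom.appLE_comp_appLE,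
      Scheme.Hom.appLE_comp_appLE]
    have e1 : c ≫ (PCone.dom φ).ι = Proj.awayι ℬ (φ x) (φ.2 hx) hd := IsOpenImmersion.lift_fac _ _ _
    simp only [e1, show c ≫ p = Spec.map (CommRingCat.ofHom (Away.map φ x)) ≫ Proj.awayι 𝒜 x hx hd from hp]
    rw [awayι_appLE_awayToSection]
    rw [← Scheme.Hom.appLE_comp_appLE (Spec.map (CommRingCat.ofHom (Away.map φ x))) (Proj.awayι 𝒜 x hx hd)
      _ ⊤ ⊤ (show ⊤ ≤ Proj.awayι 𝒜 x hx hd ⁻¹ᵁ Proj.basicOpen 𝒜 x from fun w _ => (Proj.opensRange_awayι 𝒜 x hx hd).le ⟨w, rfl⟩) (fun w _ => trivial),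
      ConcreteCategory.comp_apply, awayι_appLE_awayToSection]
    exact (ConcreteCategory.congr_hom (Scheme.ΓSpecIso_inv_naturality (CommRingCat.ofHom (Away.map φ x))) q).symm
  have hWc : W ≤ c.opensRange := hW'.trans hc.ge
  rw [← Scheme.Hom.appLE_map p hle (homOfLE hWc).op, ← Scheme.Hom.appLE_map (PCone.dom φ).ι hc.le (homOfLE hWc).op,
    ConcreteCategory.comp_apply, ConcreteCategory.comp_apply, key]

/-- Pulling `O(n)` back along `G(φ) ⟶ Proj 𝒜`. -/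
theorem nonempty_pullback_iso_restrict_dom
    (hgen : (HomogeneousIdeal.irrelevant 𝒜).toIdeal = Ideal.span (𝒜 1 : Set A))
    (p : (PCone.dom φ : Scheme.{u}) ⟶ Proj 𝒜)
    (hp : ∀ (d : ℕ) (f : A) (hd : 0 < d) (hf : f ∈ 𝒜 d),
      PCone.chart φ hf hd ≫ p = Spec.map (CommRingCat.ofHom (Away.map φ f)) ≫ Proj.awayι 𝒜 f hf hd)
    (n : ℤ) :
    Nonempty ((Scheme.Modules.pullback p).obj (Twist.twist 𝒜 n) ≅
      (Twist.twist ℬ n).restrict (PCone.dom φ).ι) := by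
  let j := (PCone.dom φ).ι
  have hpre : ∀ (d : ℕ) (f : A) (hd : 0 < d) (hf : f ∈ 𝒜 d),
      p ⁻¹ᵁ Proj.basicOpen 𝒜 f = j ⁻¹ᵁ Proj.basicOpen ℬ (φ f) := fun d f hd hf => by
    rw [(Proj16.pconeData 𝒜 ℬ φ).eq_map hp, Proj16.pconeData_preimage 𝒜 ℬ φ hf hd]
    exact Opens.ext (Proj16.pcone_range_chart 𝒜 ℬ φ hf hd)
  let U : {f : A // f ∈ 𝒜 1} → (PCone.dom φ).toScheme.Opens := fun f => p ⁻¹ᵁ Proj.basicOpen 𝒜 f.1
  have hB : ∀ f : {f : A // f ∈ 𝒜 1}, NonVan (𝒜 := ℬ) (φ f.1) (j ''ᵁ U f) := fun f y => by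
    obtain ⟨z, hz, he⟩ := y.2
    have hz' : z ∈ j ⁻¹ᵁ Proj.basicOpen ℬ (φ f.1) := (hpre 1 f.1 one_pos f.2).le hz
    exact he ▸ hz'
  refine nonempty_iso_of_frames U (fun z => ?_)
    (fun f => InvX.pullElt p (fracSect (degOneFrac f.2 n (U := Proj.basicOpen 𝒜 f.1) fun y => y.2)))
    (fun f => show Γ((Twist.twist ℬ n).restrict j, U f) from fracSect (degOneFrac (φ.2 f.2) n (hB f)))
    (fun f => InvX.isFrame_pullElt p (isFrame_fracSect _))
    (fun f => InvUfdLib.isFrame_restrict j (isFrame_fracSect _)) ?_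
  · obtain ⟨f, hf⟩ := Opens.mem_iSup.1 ((Proj.iSup_basicOpen_eq_top 𝒜 (fun f : {f : A // f ∈ 𝒜 1} => f.1)
      (by rw [hgen]; exact Ideal.span_mono fun a ha => ⟨⟨a, ha⟩, rfl⟩)).ge (trivial : p z ∈ (⊤ : (Proj 𝒜).Opens)))
    exact ⟨f, hf⟩
  · intro a b W ha hb k hk
    have hWx : W ≤ p ⁻¹ᵁ Proj.basicOpen 𝒜 (a.1 * b.1) := by
      rw [Proj.basicOpen_mul]; exact le_inf ha hb
    have hd2 : (0 : ℕ) < 1 + 1 := two_pos
    have hxm : a.1 * b.1 ∈ 𝒜 (1 + 1) := SetLike.mul_mem_graded a.2 b.2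
    have hWx' : W ≤ j ⁻¹ᵁ Proj.basicOpen ℬ (φ (a.1 * b.1)) := hWx.trans (hpre _ _ hd2 hxm).le
    let q := degOneTrans a.2 b.2 (rfl : a.1 * b.1 = a.1 * b.1) n.toNat (-n).toNat
    have hk' : k = p.appLE _ W hWx (Proj.awayToSection 𝒜 (a.1 * b.1) q) := by
      refine (InvX.isFrame_pullElt p (isFrame_fracSect _)).coord_unique ha (hk.symm.trans ?_)
      have e := congrArg (InvX.pullElt p) (res_fracSect_degOne a.2 b.2 (rfl : a.1 * b.1 = a.1 * b.1) n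
        (U := Proj.basicOpen 𝒜 a.1) (U' := Proj.basicOpen 𝒜 b.1) (fun y => y.2) (fun y => y.2)
        (W := Proj.basicOpen 𝒜 (a.1 * b.1)) (Proj.basicOpen_mul 𝒜 a.1 b.1 ▸ inf_le_left)
        (Proj.basicOpen_mul 𝒜 a.1 b.1 ▸ inf_le_right) le_rfl)
      rw [InvX.pullElt_smul, ← InvX.res_pullElt, ← InvX.res_pullElt] at e
      have e' := congrArg (AModX.res _ hWx) e
      rw [AModX.res_smul, AModX.res_res, AModX.res_res, AModX.resR_self] at e'
      exact e'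
    have hfun : Away.map φ (a.1 * b.1) q = degOneTrans (φ.2 a.2) (φ.2 b.2) (map_mul φ a.1 b.1) n.toNat (-n).toNat := by
      apply HomogeneousLocalization.val_injective
      simp [q, degOneTrans, Away.map_mk, map_pow]
    rw [hk', map_appLE_awayToSection φ p hxm hd2 (hp _ _ hd2 hxm) hWx hWx', hfun]
    have hW2 : j ''ᵁ W ≤ Proj.basicOpen ℬ (φ (a.1 * b.1)) := (j.image_mono hWx').trans (j.image_preimage_le _)
    refine (res_fracSect_degOne (φ.2 a.2) (φ.2 b.2) (map_mul φ a.1 b.1) n (hB a) (hB b) (j.image_mono ha)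
      (j.image_mono hb) hW2).trans ?_
    refine congrArg (fun c => c • AModX.res (Twist.twist ℬ n) (j.image_mono ha) (fracSect (degOneFrac (φ.2 a.2) n (hB a)))) ?_
    rw [Scheme.Opens.ι_appLE]
    show AModX.resR hW2 _ = (j.appIso W).inv.hom _
    rw [Scheme.Opens.ι_appIso]
    rfl

end Groth.Agent.TwistX
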